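import Cfsg.Agent.R2.SL2.Enum
import Cfsg.Agent.R2.SL2.Cnt

/-!
# Composition patterns of the 27-dimensional (`E6`) and 26-dimensional (`F4`) modules restricted to `PSL2(p^a)`
(R2/SL2, helper17)

Kernel-checked lists (`w` is a list of sorted digit lists, `[]` = trivial factor):
* `listE6` (`p ≥ 5`, 105 patterns), `listE6_3` (`p = 3`), `listE6_2` (`p = 2`);
* `listF4` (`p ≥ 5`), `listF4_3` (`p = 3`), `listF4_2` (`p = 2`).
-/

set_option autoImplicit false
set_option maxRecDepth 100000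

namespace Cfsg.Agent.R2.SL2

/-- even digit sum -/
def evenL (l : List ℕ) : Bool := l.sum % 2 == 0

/-- the traces of the elements of order 2 and 3 -/
def val23 (l : List ℕ) : ℤ × ℤ := (prl t2 l, prl t3 l)

/-- admissible traces, E6 -/
def okE6 (t : ℤ × ℤ) : Bool := (t.1 == 3 || t.1 == -5) && (t.2 == 0 || t.2 == 9)

/-- the composition patterns, E6, `p ≥ 5` -/
def listE6 : List (List (List ℕ)) :=
   [[[], [], [], [], [], [], [], [], [], [2], [2], [2], [2], [2], [2]],
    [[], [], [], [], [], [], [], [], [1, 1], [2], [2], [2], [2], [2]],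
    [[], [], [], [], [], [], [], [], [2], [2], [2], [2], [6]],
    [[], [], [], [], [], [], [], [1, 1], [1, 1], [2], [2], [2], [2]],
    [[], [], [], [], [], [], [], [1, 1], [2], [2], [2], [6]],
    [[], [], [], [], [], [], [], [2], [2], [6], [6]],
    [[], [], [], [], [], [], [1, 1], [1, 1], [1, 1], [2], [2], [2]],
    [[], [], [], [], [], [], [1, 1], [1, 1], [2], [2], [6]],
    [[], [], [], [], [], [], [1, 1], [2], [6], [6]],
    [[], [], [], [], [], [], [6], [6], [6]],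
    [[], [], [], [], [], [1, 1], [1, 1], [1, 1], [1, 1], [2], [2]],
    [[], [], [], [], [], [1, 1], [1, 1], [1, 1], [2], [6]],
    [[], [], [], [], [], [1, 1], [1, 1], [6], [6]],
    [[], [], [], [], [1, 1], [1, 1], [1, 1], [1, 1], [1, 1], [2]],
    [[], [], [], [], [1, 1], [1, 1], [1, 1], [1, 1], [6]],
    [[], [], [], [1, 1], [1, 1], [1, 1], [1, 1], [1, 1], [1, 1]],
    [[], [], [], [1, 3], [1, 3], [1, 3]],
    [[], [], [], [1, 3], [1, 3], [2], [4]],
    [[], [], [], [1, 3], [2], [2], [4], [4]],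
    [[], [], [], [1, 3], [4], [10]],
    [[], [], [], [2], [2], [2], [4], [4], [4]],
    [[], [], [], [2], [4], [4], [10]],
    [[], [], [1, 1], [1, 3], [1, 3], [4]],
    [[], [], [1, 1], [1, 3], [2], [4], [4]],
    [[], [], [1, 1], [2], [2], [4], [4], [4]],
    [[], [], [1, 1], [4], [4], [10]],
    [[], [], [1, 1, 2], [1, 3], [4]],
    [[], [], [1, 1, 2], [2], [4], [4]],
    [[], [], [1, 1, 4], [4]],
    [[], [], [1, 3], [1, 3], [2, 2]],
    [[], [], [1, 3], [1, 3], [8]],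
    [[], [], [1, 3], [1, 5], [4]],
    [[], [], [1, 3], [2], [2, 2], [4]],
    [[], [], [1, 3], [2], [4], [8]],
    [[], [], [1, 3], [4], [4], [6]],
    [[], [], [1, 3], [16]],
    [[], [], [1, 5], [2], [4], [4]],
    [[], [], [1, 9], [4]],
    [[], [], [2], [2], [2, 2], [4], [4]],
    [[], [], [2], [2], [4], [4], [8]],
    [[], [], [2], [4], [4], [4], [6]],
    [[], [], [2], [4], [16]],
    [[], [], [2, 2], [4], [10]],
    [[], [], [2, 4], [4], [4]],
    [[], [], [4], [4], [14]],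
    [[], [], [4], [8], [10]],
    [[], [1, 1], [1, 1], [1, 3], [4], [4]],
    [[], [1, 1], [1, 1], [2], [4], [4], [4]],
    [[], [1, 1], [1, 1, 2], [4], [4]],
    [[], [1, 1], [1, 3], [2, 2], [4]],
    [[], [1, 1], [1, 3], [4], [8]],
    [[], [1, 1], [1, 5], [4], [4]],
    [[], [1, 1], [2], [2, 2], [4], [4]],
    [[], [1, 1], [2], [4], [4], [8]],
    [[], [1, 1], [4], [4], [4], [6]],
    [[], [1, 1], [4], [16]],
    [[], [1, 1, 1, 1], [4], [4]],
    [[], [1, 1, 2], [2, 2], [4]],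
    [[], [1, 1, 2], [4], [8]],
    [[], [1, 3], [2], [2], [2], [2], [2], [2]],
    [[], [1, 3], [2, 2], [2, 2]],
    [[], [1, 3], [2, 2], [8]],
    [[], [1, 3], [4], [12]],
    [[], [1, 3], [8], [8]],
    [[], [1, 5], [2, 2], [4]],
    [[], [1, 5], [4], [8]],
    [[], [1, 7], [4], [4]],
    [[], [2], [2], [2], [2], [2], [2], [2], [4]],
    [[], [2], [2], [2], [2], [2], [10]],
    [[], [2], [2, 2], [2, 2], [4]],
    [[], [2], [2, 2], [4], [8]],
    [[], [2], [4], [4], [12]],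
    [[], [2], [4], [8], [8]],
    [[], [2, 2], [4], [4], [6]],
    [[], [2, 2], [16]],
    [[], [2, 6], [4]],
    [[], [3, 3], [4], [4]],
    [[], [4], [4], [6], [8]],
    [[], [4], [20]],
    [[], [8], [16]],
    [[1, 1], [1, 1], [1, 1], [4], [4], [4]],
    [[1, 1], [1, 1], [2, 2], [4], [4]],
    [[1, 1], [1, 1], [4], [4], [8]],
    [[1, 1], [1, 3], [2], [2], [2], [2], [2]],
    [[1, 1], [2], [2], [2], [2], [2], [2], [4]],
    [[1, 1], [2], [2], [2], [2], [10]],
    [[1, 1], [2, 2], [2, 2], [4]],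
    [[1, 1], [2, 2], [4], [8]],
    [[1, 1], [4], [4], [12]],
    [[1, 1], [4], [8], [8]],
    [[1, 1, 2], [2], [2], [2], [2], [2]],
    [[1, 3], [2], [2], [2], [2], [6]],
    [[1, 5], [2], [2], [2], [2], [2]],
    [[2], [2], [2], [2], [2], [2], [2, 2]],
    [[2], [2], [2], [2], [2], [2], [8]],
    [[2], [2], [2], [2], [2], [4], [6]],
    [[2], [2], [2], [2], [2, 4]],
    [[2], [2], [2], [2], [14]],
    [[2], [2], [2], [6], [10]],
    [[2, 2], [2, 2], [2, 2]],
    [[2, 2], [2, 2], [8]],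
    [[2, 2], [4], [12]],
    [[2, 2], [8], [8]],
    [[4], [8], [12]],
    [[8], [8], [8]]]

theorem tys_E6 : (tys val23 evenL 26 4 27).length = 32 := by decide +kernel

theorem pats_E6 : pats okE6 60 (tys val23 evenL 26 4 27) 27 0 = listE6 := by decide +kernel

/-- admissible traces, E6_3 -/
def okE63 (t : ℤ × ℤ) : Bool := t.1 == 3 || t.1 == -5

/-- the composition patterns, E6_3, `p = 3` -/
def listE6_3 : List (List (List ℕ)) :=
   [[[], [], [], [], [], [], [], [], [], [2], [2], [2], [2], [2], [2]],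
    [[], [], [], [], [], [], [], [], [1, 1], [2], [2], [2], [2], [2]],
    [[], [], [], [], [], [], [], [1, 1], [1, 1], [2], [2], [2], [2]],
    [[], [], [], [], [], [], [1, 1], [1, 1], [1, 1], [2], [2], [2]],
    [[], [], [], [], [], [], [1, 1, 2], [2], [2], [2]],
    [[], [], [], [], [], [], [2], [2], [2], [2], [2, 2]],
    [[], [], [], [], [], [1, 1], [1, 1], [1, 1], [1, 1], [2], [2]],
    [[], [], [], [], [], [1, 1], [1, 1, 2], [2], [2]],
    [[], [], [], [], [], [1, 1], [2], [2], [2], [2, 2]],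
    [[], [], [], [], [], [1, 1, 1, 1], [2], [2]],
    [[], [], [], [], [1, 1], [1, 1], [1, 1], [1, 1], [1, 1], [2]],
    [[], [], [], [], [1, 1], [1, 1], [1, 1, 2], [2]],
    [[], [], [], [], [1, 1], [1, 1], [2], [2], [2, 2]],
    [[], [], [], [], [1, 1], [1, 1, 1, 1], [2]],
    [[], [], [], [1, 1], [1, 1], [1, 1], [1, 1], [1, 1], [1, 1]],
    [[], [], [], [1, 1], [1, 1], [1, 1], [1, 1, 2]],
    [[], [], [], [1, 1], [1, 1], [1, 1], [2], [2, 2]],
    [[], [], [], [1, 1], [1, 1], [1, 1, 1, 1]],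
    [[], [], [], [1, 1, 2], [1, 1, 2]],
    [[], [], [], [1, 1, 2], [2], [2, 2]],
    [[], [], [], [2], [2], [2], [2], [2], [2], [2], [2]],
    [[], [], [], [2], [2], [2, 2], [2, 2]],
    [[], [], [1, 1], [1, 1], [1, 1], [1, 1], [2, 2]],
    [[], [], [1, 1], [1, 1, 2], [2, 2]],
    [[], [], [1, 1], [2], [2], [2], [2], [2], [2], [2]],
    [[], [], [1, 1], [2], [2, 2], [2, 2]],
    [[], [], [1, 1, 1, 1], [2, 2]],
    [[], [1, 1], [1, 1], [2], [2], [2], [2], [2], [2]],
    [[], [1, 1], [1, 1], [2, 2], [2, 2]],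
    [[1, 1], [1, 1], [1, 1], [2], [2], [2], [2], [2]],
    [[1, 1, 2], [2], [2], [2], [2], [2]],
    [[2], [2], [2], [2], [2], [2], [2, 2]],
    [[2, 2], [2, 2], [2, 2]]]

theorem tys_E6_3 : (tys val23 evenL 2 4 27).length = 7 := by decide +kernel

theorem pats_E6_3 : pats okE63 35 (tys val23 evenL 2 4 27) 27 0 = listE6_3 := by decide +kernel

/-- admissible traces, E6_2 -/
def okE62 (t : ℤ × ℤ) : Bool := t.2 == 0 || t.2 == 9

/-- the composition patterns, E6_2, `p = 2` -/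
def listE6_2 : List (List (List ℕ)) :=
   [[[], [], [], [], [], [], [], [], [], [], [], [], [], [], [], [1], [1], [1], [1], [1], [1]],
    [[], [], [], [], [], [], [], [], [], [], [], [], [], [1], [1], [1], [1], [1], [1, 1]],
    [[], [], [], [], [], [], [], [], [], [], [], [], [], [1], [1], [1], [1, 1, 1]],
    [[], [], [], [], [], [], [], [], [], [], [], [1], [1], [1], [1], [1, 1], [1, 1]],
    [[], [], [], [], [], [], [], [], [], [], [], [1], [1], [1, 1], [1, 1, 1]],
    [[], [], [], [], [], [], [], [], [], [], [], [1, 1, 1], [1, 1, 1]],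
    [[], [], [], [], [], [], [], [], [], [1], [1], [1], [1], [1], [1], [1], [1], [1]],
    [[], [], [], [], [], [], [], [], [], [1], [1], [1], [1, 1], [1, 1], [1, 1]],
    [[], [], [], [], [], [], [], [], [], [1], [1, 1], [1, 1], [1, 1, 1]],
    [[], [], [], [], [], [], [], [], [], [1], [1, 1, 1, 1]],
    [[], [], [], [], [], [], [], [1], [1], [1], [1], [1], [1], [1], [1], [1, 1]],
    [[], [], [], [], [], [], [], [1], [1], [1], [1], [1], [1], [1, 1, 1]],
    [[], [], [], [], [], [], [], [1], [1], [1, 1], [1, 1], [1, 1], [1, 1]],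
    [[], [], [], [], [], [], [], [1, 1], [1, 1], [1, 1], [1, 1, 1]],
    [[], [], [], [], [], [], [], [1, 1], [1, 1, 1, 1]],
    [[], [], [], [], [], [1], [1], [1], [1], [1], [1], [1], [1, 1], [1, 1]],
    [[], [], [], [], [], [1], [1], [1], [1], [1], [1, 1], [1, 1, 1]],
    [[], [], [], [], [], [1], [1], [1], [1, 1, 1], [1, 1, 1]],
    [[], [], [], [], [], [1], [1, 1], [1, 1], [1, 1], [1, 1], [1, 1]],
    [[], [], [], [1], [1], [1], [1], [1], [1], [1, 1], [1, 1], [1, 1]],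
    [[], [], [], [1], [1], [1], [1], [1, 1], [1, 1], [1, 1, 1]],
    [[], [], [], [1], [1], [1], [1], [1, 1, 1, 1]],
    [[], [], [], [1], [1], [1, 1], [1, 1, 1], [1, 1, 1]],
    [[], [], [], [1, 1], [1, 1], [1, 1], [1, 1], [1, 1], [1, 1]],
    [[], [], [], [1, 1, 1], [1, 1, 1], [1, 1, 1]],
    [[], [1], [1], [1], [1], [1], [1, 1], [1, 1], [1, 1], [1, 1]],
    [[], [1], [1], [1], [1, 1], [1, 1], [1, 1], [1, 1, 1]],
    [[], [1], [1], [1], [1, 1], [1, 1, 1, 1]],
    [[], [1], [1, 1], [1, 1], [1, 1, 1], [1, 1, 1]],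
    [[], [1], [1, 1, 1], [1, 1, 1, 1]]]

theorem tys_E6_2 : (tys val23 (fun _ => true) 1 4 27).length = 5 := by decide +kernel

theorem pats_E6_2 : pats okE62 33 (tys val23 (fun _ => true) 1 4 27) 27 0 = listE6_2 := by decide +kernel

/-- admissible traces, F4 -/
def okF4 (t : ℤ × ℤ) : Bool := (t.1 == 2 || t.1 == -6) && (t.2 == -1 || t.2 == 8)

/-- the composition patterns, F4, `p ≥ 5` -/
def listF4 : List (List (List ℕ)) :=
   [[[], [], [], [], [], [], [], [], [2], [2], [2], [2], [2], [2]],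
    [[], [], [], [], [], [], [], [1, 1], [2], [2], [2], [2], [2]],
    [[], [], [], [], [], [], [], [2], [2], [2], [2], [6]],
    [[], [], [], [], [], [], [1, 1], [1, 1], [2], [2], [2], [2]],
    [[], [], [], [], [], [], [1, 1], [2], [2], [2], [6]],
    [[], [], [], [], [], [], [2], [2], [6], [6]],
    [[], [], [], [], [], [1, 1], [1, 1], [1, 1], [2], [2], [2]],
    [[], [], [], [], [], [1, 1], [1, 1], [2], [2], [6]],
    [[], [], [], [], [], [1, 1], [2], [6], [6]],
    [[], [], [], [], [], [6], [6], [6]],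
    [[], [], [], [], [1, 1], [1, 1], [1, 1], [1, 1], [2], [2]],
    [[], [], [], [], [1, 1], [1, 1], [1, 1], [2], [6]],
    [[], [], [], [], [1, 1], [1, 1], [6], [6]],
    [[], [], [], [1, 1], [1, 1], [1, 1], [1, 1], [1, 1], [2]],
    [[], [], [], [1, 1], [1, 1], [1, 1], [1, 1], [6]],
    [[], [], [1, 1], [1, 1], [1, 1], [1, 1], [1, 1], [1, 1]],
    [[], [], [1, 3], [1, 3], [1, 3]],
    [[], [], [1, 3], [1, 3], [2], [4]],
    [[], [], [1, 3], [2], [2], [4], [4]],
    [[], [], [1, 3], [4], [10]],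
    [[], [], [2], [2], [2], [4], [4], [4]],
    [[], [], [2], [4], [4], [10]],
    [[], [1, 1], [1, 3], [1, 3], [4]],
    [[], [1, 1], [1, 3], [2], [4], [4]],
    [[], [1, 1], [2], [2], [4], [4], [4]],
    [[], [1, 1], [4], [4], [10]],
    [[], [1, 1, 2], [1, 3], [4]],
    [[], [1, 1, 2], [2], [4], [4]],
    [[], [1, 1, 4], [4]],
    [[], [1, 3], [1, 3], [2, 2]],
    [[], [1, 3], [1, 3], [8]],
    [[], [1, 3], [1, 5], [4]],
    [[], [1, 3], [2], [2, 2], [4]],
    [[], [1, 3], [2], [4], [8]],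
    [[], [1, 3], [4], [4], [6]],
    [[], [1, 3], [16]],
    [[], [1, 5], [2], [4], [4]],
    [[], [1, 9], [4]],
    [[], [2], [2], [2, 2], [4], [4]],
    [[], [2], [2], [4], [4], [8]],
    [[], [2], [4], [4], [4], [6]],
    [[], [2], [4], [16]],
    [[], [2, 2], [4], [10]],
    [[], [2, 4], [4], [4]],
    [[], [4], [4], [14]],
    [[], [4], [8], [10]],
    [[1, 1], [1, 1], [1, 3], [4], [4]],
    [[1, 1], [1, 1], [2], [4], [4], [4]],
    [[1, 1], [1, 1, 2], [4], [4]],
    [[1, 1], [1, 3], [2, 2], [4]],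
    [[1, 1], [1, 3], [4], [8]],
    [[1, 1], [1, 5], [4], [4]],
    [[1, 1], [2], [2, 2], [4], [4]],
    [[1, 1], [2], [4], [4], [8]],
    [[1, 1], [4], [4], [4], [6]],
    [[1, 1], [4], [16]],
    [[1, 1, 1, 1], [4], [4]],
    [[1, 1, 2], [2, 2], [4]],
    [[1, 1, 2], [4], [8]],
    [[1, 3], [2], [2], [2], [2], [2], [2]],
    [[1, 3], [2, 2], [2, 2]],
    [[1, 3], [2, 2], [8]],
    [[1, 3], [4], [12]],
    [[1, 3], [8], [8]],
    [[1, 5], [2, 2], [4]],
    [[1, 5], [4], [8]],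
    [[1, 7], [4], [4]],
    [[2], [2], [2], [2], [2], [2], [2], [4]],
    [[2], [2], [2], [2], [2], [10]],
    [[2], [2, 2], [2, 2], [4]],
    [[2], [2, 2], [4], [8]],
    [[2], [4], [4], [12]],
    [[2], [4], [8], [8]],
    [[2, 2], [4], [4], [6]],
    [[2, 2], [16]],
    [[2, 6], [4]],
    [[3, 3], [4], [4]],
    [[4], [4], [6], [8]],
    [[4], [20]],
    [[8], [16]]]

theorem tys_F4 : (tys val23 evenL 25 4 26).length = 29 := by decide +kernel

theorem pats_F4 : pats okF4 56 (tys val23 evenL 25 4 26) 26 0 = listF4 := by decide +kernel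

/-- admissible traces, F4_3 -/
def okF43 (t : ℤ × ℤ) : Bool := t.1 == 2 || t.1 == -6

/-- the composition patterns, F4_3, `p = 3` -/
def listF4_3 : List (List (List ℕ)) :=
   [[[], [], [], [], [], [], [], [], [2], [2], [2], [2], [2], [2]],
    [[], [], [], [], [], [], [], [1, 1], [2], [2], [2], [2], [2]],
    [[], [], [], [], [], [], [1, 1], [1, 1], [2], [2], [2], [2]],
    [[], [], [], [], [], [1, 1], [1, 1], [1, 1], [2], [2], [2]],
    [[], [], [], [], [], [1, 1, 2], [2], [2], [2]],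
    [[], [], [], [], [], [2], [2], [2], [2], [2, 2]],
    [[], [], [], [], [1, 1], [1, 1], [1, 1], [1, 1], [2], [2]],
    [[], [], [], [], [1, 1], [1, 1, 2], [2], [2]],
    [[], [], [], [], [1, 1], [2], [2], [2], [2, 2]],
    [[], [], [], [], [1, 1, 1, 1], [2], [2]],
    [[], [], [], [1, 1], [1, 1], [1, 1], [1, 1], [1, 1], [2]],
    [[], [], [], [1, 1], [1, 1], [1, 1, 2], [2]],
    [[], [], [], [1, 1], [1, 1], [2], [2], [2, 2]],
    [[], [], [], [1, 1], [1, 1, 1, 1], [2]],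
    [[], [], [1, 1], [1, 1], [1, 1], [1, 1], [1, 1], [1, 1]],
    [[], [], [1, 1], [1, 1], [1, 1], [1, 1, 2]],
    [[], [], [1, 1], [1, 1], [1, 1], [2], [2, 2]],
    [[], [], [1, 1], [1, 1], [1, 1, 1, 1]],
    [[], [], [1, 1, 2], [1, 1, 2]],
    [[], [], [1, 1, 2], [2], [2, 2]],
    [[], [], [2], [2], [2], [2], [2], [2], [2], [2]],
    [[], [], [2], [2], [2, 2], [2, 2]],
    [[], [1, 1], [1, 1], [1, 1], [1, 1], [2, 2]],
    [[], [1, 1], [1, 1, 2], [2, 2]],
    [[], [1, 1], [2], [2], [2], [2], [2], [2], [2]],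
    [[], [1, 1], [2], [2, 2], [2, 2]],
    [[], [1, 1, 1, 1], [2, 2]],
    [[1, 1], [1, 1], [2], [2], [2], [2], [2], [2]],
    [[1, 1], [1, 1], [2, 2], [2, 2]]]

theorem tys_F4_3 : (tys val23 evenL 2 4 26).length = 6 := by decide +kernel

theorem pats_F4_3 : pats okF43 33 (tys val23 evenL 2 4 26) 26 0 = listF4_3 := by decide +kernel

/-- admissible traces, F4_2 -/
def okF42 (t : ℤ × ℤ) : Bool := t.2 == -1 || t.2 == 8

/-- the composition patterns, F4_2, `p = 2` -/
def listF4_2 : List (List (List ℕ)) :=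
   [[[], [], [], [], [], [], [], [], [], [], [], [], [], [], [1], [1], [1], [1], [1], [1]],
    [[], [], [], [], [], [], [], [], [], [], [], [], [1], [1], [1], [1], [1], [1, 1]],
    [[], [], [], [], [], [], [], [], [], [], [], [], [1], [1], [1], [1, 1, 1]],
    [[], [], [], [], [], [], [], [], [], [], [1], [1], [1], [1], [1, 1], [1, 1]],
    [[], [], [], [], [], [], [], [], [], [], [1], [1], [1, 1], [1, 1, 1]],
    [[], [], [], [], [], [], [], [], [], [], [1, 1, 1], [1, 1, 1]],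
    [[], [], [], [], [], [], [], [], [1], [1], [1], [1], [1], [1], [1], [1], [1]],
    [[], [], [], [], [], [], [], [], [1], [1], [1], [1, 1], [1, 1], [1, 1]],
    [[], [], [], [], [], [], [], [], [1], [1, 1], [1, 1], [1, 1, 1]],
    [[], [], [], [], [], [], [], [], [1], [1, 1, 1, 1]],
    [[], [], [], [], [], [], [1], [1], [1], [1], [1], [1], [1], [1], [1, 1]],
    [[], [], [], [], [], [], [1], [1], [1], [1], [1], [1], [1, 1, 1]],
    [[], [], [], [], [], [], [1], [1], [1, 1], [1, 1], [1, 1], [1, 1]],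
    [[], [], [], [], [], [], [1, 1], [1, 1], [1, 1], [1, 1, 1]],
    [[], [], [], [], [], [], [1, 1], [1, 1, 1, 1]],
    [[], [], [], [], [1], [1], [1], [1], [1], [1], [1], [1, 1], [1, 1]],
    [[], [], [], [], [1], [1], [1], [1], [1], [1, 1], [1, 1, 1]],
    [[], [], [], [], [1], [1], [1], [1, 1, 1], [1, 1, 1]],
    [[], [], [], [], [1], [1, 1], [1, 1], [1, 1], [1, 1], [1, 1]],
    [[], [], [1], [1], [1], [1], [1], [1], [1, 1], [1, 1], [1, 1]],
    [[], [], [1], [1], [1], [1], [1, 1], [1, 1], [1, 1, 1]],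
    [[], [], [1], [1], [1], [1], [1, 1, 1, 1]],
    [[], [], [1], [1], [1, 1], [1, 1, 1], [1, 1, 1]],
    [[], [], [1, 1], [1, 1], [1, 1], [1, 1], [1, 1], [1, 1]],
    [[], [], [1, 1, 1], [1, 1, 1], [1, 1, 1]],
    [[1], [1], [1], [1], [1], [1, 1], [1, 1], [1, 1], [1, 1]],
    [[1], [1], [1], [1, 1], [1, 1], [1, 1], [1, 1, 1]],
    [[1], [1], [1], [1, 1], [1, 1, 1, 1]],
    [[1], [1, 1], [1, 1], [1, 1, 1], [1, 1, 1]],
    [[1], [1, 1, 1], [1, 1, 1, 1]]]

theorem tys_F4_2 : (tys val23 (fun _ => true) 1 4 26).length = 5 := by decide +kernel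

theorem pats_F4_2 : pats okF42 32 (tys val23 (fun _ => true) 1 4 26) 26 0 = listF4_2 := by decide +kernel

end Cfsg.Agent.R2.SL2
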