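import Cfsg.Agent.R2.SL2.Dig

/-!
# Verified enumeration of composition patterns (R2/SL2, helper17)

* `gen M n m D` : the weakly increasing lists of digits in `[m, M]` with `∏ (d + 1) ≤ D`, of length `≤ n`;
* `pats ok n L D t` : the multisets of types (elements of the list `L` of triples `(name, dim, value)`) of total dimension
  `D` and with `ok (t + total value)`;
* `exists_pats` : the completeness.
-/

set_option autoImplicit false

namespace Cfsg.Agent.R2.SL2

/-- the weakly increasing lists of digits in `[m, M]` with `∏ (d + 1) ≤ D` and of length at most `n` -/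
def gen (M : ℕ) : ℕ → ℕ → ℕ → List (List ℕ)
  | 0, _, _ => [[]]
  | n + 1, m, D => [] :: (List.range' m (M + 1 - m)).flatMap fun d =>
      if d + 1 ≤ D then (gen M n d (D / (d + 1))).map (fun l => d :: l) else []

theorem mem_gen {M : ℕ} : ∀ (n m D : ℕ) (l : List ℕ), l.Pairwise (fun a b => a ≤ b) → (∀ d ∈ l, m ≤ d ∧ d ≤ M) →
    (l.map (fun d => d + 1)).prod ≤ D → l.length ≤ n → l ∈ gen M n m D := by
  intro n
  induction n with
  | zero =>
    intro m D l _ _ _ hl
    rw [List.length_eq_zero_iff.1 (Nat.le_zero.1 hl)]
    exact List.mem_singleton.2 rfl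
  | succ n ih =>
    intro m D l hs hm hD hl
    cases l with
    | nil => exact List.mem_cons_self
    | cons d t =>
      refine List.mem_cons_of_mem _ (List.mem_flatMap.2 ⟨d, ?_, ?_⟩)
      · have := hm d List.mem_cons_self
        rw [List.mem_range'_1]
        omega
      · rw [List.map_cons, List.prod_cons] at hD
        have hpos : 0 < (t.map (fun d => d + 1)).prod :=
          List.prod_pos fun a ha => by
            obtain ⟨b, _, rfl⟩ := List.mem_map.1 ha
            exact Nat.succ_pos b
        have h1 : d + 1 ≤ D := le_trans (Nat.le_mul_of_pos_right _ hpos) hD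
        rw [if_pos h1]
        refine List.mem_map.2 ⟨t, ?_, rfl⟩
        refine ih d _ t hs.of_cons ?_ ?_ (Nat.le_of_succ_le_succ hl)
        · intro e he
          exact ⟨List.rel_of_pairwise_cons hs he, (hm e (List.mem_cons_of_mem _ he)).2⟩
        · rw [Nat.le_div_iff_mul_le (Nat.succ_pos d), mul_comm]
          exact hD

/-- the multisets of types of total dimension `D` with admissible total value -/
def pats {T A : Type*} [Add A] (ok : A → Bool) : ℕ → List (T × ℕ × A) → ℕ → A → List (List T)
  | 0, _, _, _ => []
  | n + 1, L, D, t =>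
    if D = 0 then (if ok t then [[]] else [])
    else match L with
      | [] => []
      | x :: L' => (if x.2.1 ≤ D then (pats ok n (x :: L') (D - x.2.1) (t + x.2.2)).map (fun l => x.1 :: l) else []) ++
          pats ok n L' D t

theorem mem_pats {T A : Type*} [AddCommMonoid A] (ok : A → Bool) :
    ∀ (n : ℕ) (L : List (T × ℕ × A)) (D : ℕ) (t : A) (M : Multiset (T × ℕ × A)), (∀ x ∈ M, x ∈ L) →
      (∀ x ∈ M, 1 ≤ x.2.1) → (M.map fun x => x.2.1).sum = D → ok (t + (M.map fun x => x.2.2).sum) = true →
      L.length + D < n → ∃ w ∈ pats ok n L D t, (w : Multiset T) = M.map fun x => x.1 := by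
  intro n
  induction n with
  | zero => intro L D t M _ _ _ _ h; exact absurd h (Nat.not_lt_zero _)
  | succ n ih =>
    intro L D t M hL h1 hD hok hn
    unfold pats
    split_ifs with h0 hk
    · refine ⟨[], List.mem_singleton.2 rfl, ?_⟩
      have hM : M = 0 := by
        by_contra hne
        obtain ⟨x, hx⟩ := Multiset.exists_mem_of_ne_zero hne
        have h2 : x.2.1 ≤ (M.map fun x => x.2.1).sum := Multiset.le_sum_of_mem (Multiset.mem_map_of_mem (fun x : T × ℕ × A => x.2.1) hx)
        have := h1 x hx
        omega
      rw [hM]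
      rfl
    · exfalso
      have hM : M = 0 := by
        by_contra hne
        obtain ⟨x, hx⟩ := Multiset.exists_mem_of_ne_zero hne
        have h2 : x.2.1 ≤ (M.map fun x => x.2.1).sum := Multiset.le_sum_of_mem (Multiset.mem_map_of_mem (fun x : T × ℕ × A => x.2.1) hx)
        have := h1 x hx
        omega
      rw [hM, Multiset.map_zero, Multiset.sum_zero, add_zero] at hok
      exact hk hok
    · cases L with
      | nil =>
        exfalso
        have hM : M = 0 := Multiset.eq_zero_of_forall_notMem fun x hx => by simpa using hL x hx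
        rw [hM] at hD
        exact h0 (by rw [← hD]; rfl)
      | cons x L' =>
        by_cases hx : x ∈ M
        · obtain ⟨M', hM'⟩ := Multiset.exists_cons_of_mem hx
          rw [hM', Multiset.map_cons, Multiset.sum_cons] at hD
          rw [hM', Multiset.map_cons, Multiset.sum_cons, ← add_assoc] at hok
          have hx1 := h1 x hx
          have hle : x.2.1 ≤ D := by omega
          have hD' : (M'.map fun x => x.2.1).sum = D - x.2.1 := by omega
          obtain ⟨w, hw, hwM⟩ := ih (x :: L') (D - x.2.1) (t + x.2.2) M'
            (fun y hy => hL y (hM' ▸ Multiset.mem_cons_of_mem hy)) (fun y hy => h1 y (hM' ▸ Multiset.mem_cons_of_mem hy))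
            hD' hok (by omega)
          refine ⟨x.1 :: w, ?_, ?_⟩
          · apply List.mem_append_left
            rw [if_pos hle]
            exact List.mem_map.2 ⟨w, hw, rfl⟩
          · rw [hM', Multiset.map_cons, ← hwM, Multiset.cons_coe]
        · obtain ⟨w, hw, hwM⟩ := ih L' D t M (fun y hy => by
            rcases List.mem_cons.1 (hL y hy) with h | h
            · exact absurd (h ▸ hy) hx
            · exact h) h1 hD hok (by
              rw [List.length_cons] at hn
              omega)
          exact ⟨w, List.mem_append_right _ hw, hwM⟩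

/-- product of `f` over a list -/
def prl {M : Type*} [Mul M] [One M] (f : ℕ → M) : List ℕ → M
  | [] => 1
  | d :: l => f d * prl f l

theorem prl_eq {M : Type*} [CommMonoid M] (f : ℕ → M) (l : List ℕ) : prl f l = pr f (l : Multiset ℕ) := by
  unfold pr
  rw [Multiset.map_coe, Multiset.prod_coe]
  induction l with
  | nil => rfl
  | cons d l ih => rw [List.map_cons, List.prod_cons, ← ih]; rfl

/-- the sorted list of the nonzero digits -/
def tyl (p b : ℕ) : List ℕ := (typ p b).sort (fun a b => a ≤ b)

theorem coe_tyl (p b : ℕ) : ((tyl p b : List ℕ) : Multiset ℕ) = typ p b := Multiset.sort_eq _ _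

/-- the table of the types -/
def tys {A : Type*} (val : List ℕ → A) (par : List ℕ → Bool) (M n D : ℕ) : List (List ℕ × ℕ × A) :=
  ((gen M n 1 D).filter par).map fun l => (l, prl (fun d => d + 1) l, val l)

theorem prl_le_of_mem {p : ℕ} [hp : Fact p.Prime] {s : Multiset ℕ} {b : ℕ} (hb : b ∈ s) :
    pr (fun d => d + 1) (typ p b) ≤ (s.map fun b => (Bp p b).card).sum := by
  rw [← card_Bp]
  exact Multiset.le_sum_of_mem (Multiset.mem_map_of_mem (fun b => (Bp p b).card) hb)

/-- **completeness of the enumeration** -/
theorem exists_pats {p : ℕ} [hp : Fact p.Prime] {A : Type*} [AddCommMonoid A] (val : List ℕ → A) (par : List ℕ → Bool)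
    (ok : A → Bool) {M n D : ℕ} (s : Multiset ℕ) (hpar : ∀ b ∈ s, par (tyl p b) = true)
    (hM : p ≤ M + 1 ∨ D ≤ M + 1) (hn : D < 2 ^ (n + 1)) (hD : (s.map fun b => (Bp p b).card).sum = D)
    (hok : ok (s.map fun b => val (tyl p b)).sum = true) {N : ℕ} (hN : (tys val par M n D).length + D < N) :
    ∃ w ∈ pats ok N (tys val par M n D) D 0, (w : Multiset (List ℕ)) = s.map (tyl p) := by
  have hmem : ∀ b ∈ s, tyl p b ∈ gen M n 1 D := by
    intro b hb
    have hle : prl (fun d => d + 1) (tyl p b) ≤ D := by
      rw [prl_eq, coe_tyl, ← hD]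
      exact prl_le_of_mem hb
    have hprod : ((tyl p b).map (fun d => d + 1)).prod ≤ D := by
      rw [prl_eq] at hle
      unfold pr at hle
      rwa [Multiset.map_coe, Multiset.prod_coe] at hle
    have hdig : ∀ d ∈ tyl p b, 1 ≤ d ∧ d < p := fun d hd => by
      have : d ∈ typ p b := by rw [← coe_tyl]; exact hd
      exact mem_typ hp.out.one_lt this
    refine mem_gen n 1 D (tyl p b) (Multiset.pairwise_sort _ _) ?_ hprod ?_
    · intro d hd
      refine ⟨(hdig d hd).1, ?_⟩
      rcases hM with h | h
      · have := (hdig d hd).2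
        omega
      · have h1 : d + 1 ∣ ((tyl p b).map (fun d => d + 1)).prod :=
          List.dvd_prod (List.mem_map.2 ⟨d, hd, rfl⟩)
        have hpos : 0 < ((tyl p b).map (fun d => d + 1)).prod :=
          List.prod_pos fun a ha => by
            obtain ⟨b, _, rfl⟩ := List.mem_map.1 ha
            exact Nat.succ_pos b
        have := Nat.le_of_dvd hpos h1
        omega
    · have h2 : ∀ l : List ℕ, (∀ d ∈ l, 1 ≤ d) → 2 ^ l.length ≤ (l.map (fun d => d + 1)).prod := by
        intro l
        induction l with
        | nil => intro _; exact le_rfl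
        | cons d l ih =>
          intro h
          rw [List.length_cons, List.map_cons, List.prod_cons, pow_succ, mul_comm]
          exact Nat.mul_le_mul (Nat.succ_le_succ (h d List.mem_cons_self))
            (ih fun e he => h e (List.mem_cons_of_mem _ he))
      have h3 := h2 _ fun d hd => (hdig d hd).1
      have h4 : 2 ^ (tyl p b).length < 2 ^ (n + 1) := lt_of_le_of_lt (h3.trans hprod) hn
      exact Nat.lt_succ_iff.1 ((Nat.pow_lt_pow_iff_right (by norm_num)).1 h4)
  have hmem' : ∀ b ∈ s, (tyl p b, prl (fun d => d + 1) (tyl p b), val (tyl p b)) ∈ tys val par M n D := by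
    intro b hb
    exact List.mem_map.2 ⟨tyl p b, List.mem_filter.2 ⟨hmem b hb, hpar b hb⟩, rfl⟩
  obtain ⟨w, hw, hwM⟩ := mem_pats ok N (tys val par M n D) D 0
    (s.map fun b => (tyl p b, prl (fun d => d + 1) (tyl p b), val (tyl p b)))
    (by
      intro x hx
      obtain ⟨b, hb, rfl⟩ := Multiset.mem_map.1 hx
      exact hmem' b hb)
    (by
      intro x hx
      obtain ⟨b, hb, rfl⟩ := Multiset.mem_map.1 hx
      show 1 ≤ prl (fun d => d + 1) (tyl p b)
      rw [prl_eq]
      unfold pr
      rw [Multiset.map_coe, Multiset.prod_coe]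
      exact List.prod_pos fun a ha => by
        obtain ⟨b, _, rfl⟩ := List.mem_map.1 ha
        exact Nat.succ_pos b)
    (by
      rw [Multiset.map_map, ← hD]
      refine congrArg Multiset.sum (Multiset.map_congr rfl fun b _ => ?_)
      show prl (fun d => d + 1) (tyl p b) = _
      rw [prl_eq, coe_tyl, card_Bp])
    (by
      rw [Multiset.map_map, zero_add]
      exact hok)
    hN
  refine ⟨w, hw, hwM.trans ?_⟩
  rw [Multiset.map_map]
  rfl

end Cfsg.Agent.R2.SL2
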